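import Mathlib

set_option autoImplicit false

/-! An irreducible linear map `X` on a finite vector space `V` over a finite field `F` generates a
field `F[X]` of order `|V|`; consequences for its determinant and for scalar powers. -/

namespace Cfsg.Agent.Lib.Helper5.HalfTorus

open Polynomial

variable {F : Type*} [Field F] {V : Type*} [AddCommGroup V] [Module F V]

theorem ker_eq_bot_of_commute (X a : Module.End F V)
    (hirr : ∀ W : Submodule F V, (∀ w ∈ W, X w ∈ W) → W = ⊥ ∨ W = ⊤)
    (hc : a * X = X * a) (ha : a ≠ 0) : LinearMap.ker a = ⊥ := by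
  rcases hirr (LinearMap.ker a) (by
    intro w hw
    rw [LinearMap.mem_ker] at hw ⊢
    have := LinearMap.congr_fun hc w
    simp only [Module.End.mul_apply] at this
    rw [this, hw, map_zero]) with h | h
  · exact h
  · exact absurd (LinearMap.ker_eq_top.mp h) ha

theorem aeval_commute (X : Module.End F V) (g : F[X]) : aeval X g * X = X * aeval X g := by
  have h1 : aeval X (g * Polynomial.X) = aeval X (Polynomial.X * g) := by rw [mul_comm]
  rwa [map_mul, map_mul, aeval_X] at h1

theorem irreducible_minpoly [Nontrivial V] [Module.Finite F V] (X : Module.End F V)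
    (hirr : ∀ W : Submodule F V, (∀ w ∈ W, X w ∈ W) → W = ⊥ ∨ W = ⊤) :
    Irreducible (minpoly F X) := by
  have hint : IsIntegral F X := Algebra.IsIntegral.isIntegral X
  rw [irreducible_iff]
  refine ⟨minpoly.not_isUnit F X, ?_⟩
  intro g h hgh
  have h0 : aeval X g * aeval X h = 0 := by
    rw [← map_mul, ← hgh, minpoly.aeval]
  have hne : minpoly F X ≠ 0 := minpoly.ne_zero hint
  have hzero : aeval X g = 0 ∨ aeval X h = 0 := by
    by_contra hcon
    rw [not_or] at hcon
    obtain ⟨hg0, hh0⟩ := hcon
    have kg := ker_eq_bot_of_commute X _ hirr (aeval_commute X g) hg0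
    have kh := ker_eq_bot_of_commute X _ hirr (aeval_commute X h) hh0
    obtain ⟨w, hw⟩ := exists_ne (0 : V)
    apply hw
    have h1 : aeval X g (aeval X h w) = 0 := by
      have := LinearMap.congr_fun h0 w
      simpa using this
    have h2 : aeval X h w = 0 := by
      have : aeval X h w ∈ LinearMap.ker (aeval X g) := LinearMap.mem_ker.mpr h1
      rw [kg] at this
      exact (Submodule.mem_bot F).mp this
    have : w ∈ LinearMap.ker (aeval X h) := LinearMap.mem_ker.mpr h2
    rw [kh] at this
    exact (Submodule.mem_bot F).mp this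
  rcases hzero with hz | hz
  · right
    obtain ⟨c, hc⟩ := minpoly.dvd F X hz
    have hg0 : g ≠ 0 := by
      rintro rfl
      rw [zero_mul] at hgh
      exact hne hgh
    have : g * 1 = g * (h * c) := by
      rw [mul_one]
      nth_rewrite 1 [hc, hgh]
      ring
    exact IsUnit.of_mul_eq_one c (mul_left_cancel₀ hg0 this).symm
  · left
    obtain ⟨c, hc⟩ := minpoly.dvd F X hz
    have hh0 : h ≠ 0 := by
      rintro rfl
      rw [mul_zero] at hgh
      exact hne hgh
    have : h * 1 = h * (g * c) := by
      rw [mul_one]
      nth_rewrite 1 [hc, hgh]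
      ring
    exact IsUnit.of_mul_eq_one c (mul_left_cancel₀ hh0 this).symm

end Cfsg.Agent.Lib.Helper5.HalfTorus
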