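import Mathlib
import Cfsg.Agent.Lib.Helper5.HalfTorus.Irred

set_option autoImplicit false

/-! The field `F[X]` of an irreducible linear map: determinant and scalar powers. -/

namespace Cfsg.Agent.Lib.Helper5.HalfTorus

open Polynomial

variable {F : Type*} [Field F] [Fintype F] {V : Type*} [AddCommGroup V] [Module F V] [Finite V]
  [Nontrivial V]

/-- in a finite extension field, the `(q - 1)`-th roots of unity are the non-zero elements of the
subfield with `q` elements -/
theorem exists_algebraMap_eq_of_pow (K : Type*) [Field K] [Algebra F K] (a : K)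
    (ha : a ^ (Fintype.card F - 1) = 1) : ∃ c : F, a = algebraMap F K c := by
  classical
  have hq : 2 ≤ Fintype.card F := Fintype.one_lt_card
  have hpos : 0 < Fintype.card F - 1 := by omega
  obtain ⟨S, hS⟩ : ∃ S : Finset K, S = (Finset.univ : Finset Fˣ).image
      (fun c : Fˣ => algebraMap F K (c : F)) := ⟨_, rfl⟩
  have hcard : S.card = Fintype.card F - 1 := by
    rw [hS, Finset.card_image_of_injective, Finset.card_univ, Fintype.card_units]
    intro c d hcd
    exact Units.ext ((algebraMap F K).injective hcd)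
  have hsub : S ⊆ nthRootsFinset (Fintype.card F - 1) (1 : K) := by
    intro b hb
    rw [hS, Finset.mem_image] at hb
    obtain ⟨c, -, rfl⟩ := hb
    rw [mem_nthRootsFinset hpos, ← map_pow, ← Units.val_pow_eq_pow_val]
    have : c ^ (Fintype.card F - 1) = 1 := by
      rw [← Fintype.card_units]
      exact pow_card_eq_one
    rw [this, Units.val_one, map_one]
  have hle : (nthRootsFinset (Fintype.card F - 1) (1 : K)).card ≤ S.card := by
    rw [hcard]
    unfold nthRootsFinset
    exact (Multiset.toFinset_card_le _).trans (card_nthRoots _ _)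
  have heq := Finset.eq_of_subset_of_card_le hsub hle
  have hmem : a ∈ S := by
    rw [heq, mem_nthRootsFinset hpos]
    exact ha
  rw [hS, Finset.mem_image] at hmem
  obtain ⟨c, -, hc⟩ := hmem
  exact ⟨c, hc.symm⟩

/-- the two facts about an irreducible linear map used for the order criterion -/
theorem irreducible_facts (X : Module.End F V)
    (hirr : ∀ W : Submodule F V, (∀ w ∈ W, X w ∈ W) → W = ⊥ ∨ W = ⊤) :
    (LinearMap.det X = 1 →
      X ^ ((Fintype.card F ^ Module.finrank F V - 1) / (Fintype.card F - 1)) = 1) ∧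
    (∀ j : ℕ, (X ^ j) ^ (Fintype.card F - 1) = 1 → ∃ c : F, X ^ j = c • (1 : Module.End F V)) := by
  have hfin : Module.Finite F V := Module.Finite.of_finite
  have hfact : Fact (Irreducible (minpoly F X)) := ⟨irreducible_minpoly X hirr⟩
  obtain ⟨ρ, hρ⟩ : ∃ ρ : AdjoinRoot (minpoly F X) →ₐ[F] Module.End F V,
      ρ (AdjoinRoot.root _) = X := by
    have hI : ∀ a : F[X], a ∈ Ideal.span {minpoly F X} → aeval X a = 0 := by
      intro a ha
      obtain ⟨c, rfl⟩ := Ideal.mem_span_singleton.mp ha
      rw [map_mul, minpoly.aeval, zero_mul]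
    refine ⟨Ideal.Quotient.liftₐ (Ideal.span {minpoly F X}) (aeval X) hI, ?_⟩
    have := AlgHom.congr_fun (Ideal.Quotient.liftₐ_comp (Ideal.span {minpoly F X}) (aeval X) hI)
      Polynomial.X
    rw [aeval_X] at this
    exact this
  have hone : (1 : Module.End F V) ≠ 0 := by
    obtain ⟨w, hw⟩ := exists_ne (0 : V)
    intro h
    apply hw
    have := LinearMap.congr_fun h w
    simpa using this
  have hρinj : Function.Injective ρ := by
    have : Nontrivial (Module.End F V) := ⟨⟨1, 0, hone⟩⟩
    exact (ρ : AdjoinRoot (minpoly F X) →+* Module.End F V).injective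
  obtain ⟨v, hv⟩ := exists_ne (0 : V)
  obtain ⟨φ, hφ⟩ : ∃ φ : AdjoinRoot (minpoly F X) →ₗ[F] V, ∀ a, φ a = ρ a v :=
    ⟨(LinearMap.applyₗ v) ∘ₗ ρ.toLinearMap, fun a => rfl⟩
  have hφinj : Function.Injective φ := by
    rw [← LinearMap.ker_eq_bot, LinearMap.ker_eq_bot']
    intro a ha
    by_contra ha0
    apply hv
    have h1 : ρ (a⁻¹ * a) v = v := by
      rw [inv_mul_cancel₀ ha0, map_one]
      rfl
    rw [← h1, map_mul, Module.End.mul_apply, ← hφ, ha, map_zero]
  have hφsurj : Function.Surjective φ := by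
    rw [← LinearMap.range_eq_top]
    rcases hirr (LinearMap.range φ) (by
      rintro w ⟨a, rfl⟩
      refine ⟨AdjoinRoot.root _ * a, ?_⟩
      rw [hφ, hφ, map_mul, hρ, Module.End.mul_apply]) with h | h
    · exfalso
      apply hv
      have : v ∈ LinearMap.range φ := ⟨1, by rw [hφ, map_one]; rfl⟩
      rw [h] at this
      exact (Submodule.mem_bot F).mp this
    · exact h
  have hKfin : Finite (AdjoinRoot (minpoly F X)) := Finite.of_injective φ hφinj
  obtain ⟨e, he⟩ : ∃ e : AdjoinRoot (minpoly F X) ≃ₗ[F] V, ∀ a, e a = ρ a v :=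
    ⟨LinearEquiv.ofBijective φ ⟨hφinj, hφsurj⟩, fun a => hφ a⟩
  have hcardK : Nat.card (AdjoinRoot (minpoly F X)) =
      Fintype.card F ^ Module.finrank F V := by
    rw [Nat.card_congr e.toEquiv, Module.natCard_eq_pow_finrank (K := F),
      Nat.card_eq_fintype_card]
  have hdet : LinearMap.det X = Algebra.norm F (AdjoinRoot.root (minpoly F X)) := by
    rw [Algebra.norm_apply, ← LinearMap.det_conj _ e]
    congr 1
    apply LinearMap.ext
    intro w
    obtain ⟨a, rfl⟩ := e.surjective w
    simp only [LinearMap.comp_apply, LinearEquiv.coe_coe, LinearEquiv.symm_apply_apply]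
    rw [Algebra.coe_lmul_eq_mul, LinearMap.mul_apply', he, he, map_mul, hρ, Module.End.mul_apply]
  constructor
  · intro h1
    rw [hdet] at h1
    have h2 := FiniteField.algebraMap_norm_eq_pow (K := F) (K' := AdjoinRoot (minpoly F X))
      (x := AdjoinRoot.root (minpoly F X))
    rw [h1, map_one, hcardK, Nat.card_eq_fintype_card] at h2
    rw [← hρ, ← map_pow, ← h2, map_one]
  · intro j hj
    rw [← hρ, ← map_pow, ← map_pow] at hj
    have h3 : (AdjoinRoot.root (minpoly F X) ^ j) ^ (Fintype.card F - 1) = 1 := by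
      apply hρinj
      rw [hj, map_one]
    obtain ⟨c, hc⟩ := exists_algebraMap_eq_of_pow _ _ h3
    refine ⟨c, ?_⟩
    rw [← hρ, ← map_pow, hc, AlgHom.commutes, Algebra.algebraMap_eq_smul_one]

end Cfsg.Agent.Lib.Helper5.HalfTorus
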