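import Mathlib

set_option autoImplicit false

/-! Arithmetic for the order criterion `q ^ (n / 2) + 1 ∈ ω(PSL_n(q))`. -/

namespace Cfsg.Agent.Lib.Helper5.HalfTorus

open Finset

theorem geom_sum_modEq (q d m : ℕ) (hq : 1 ≤ q) (hd : d ∣ q - 1) :
    (∑ i ∈ range m, q ^ i) ≡ m [MOD d] := by
  have h1 : q ≡ 1 [MOD d] := ((Nat.modEq_iff_dvd' hq).mpr hd).symm
  induction m with
  | zero => simp [Nat.ModEq]
  | succ m ih =>
    rw [sum_range_succ]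
    have h2 : q ^ m ≡ 1 [MOD d] := by
      have := h1.pow m
      rwa [one_pow] at this
    exact ih.add h2

theorem geom_sum_mul_sub_one (q m : ℕ) (hq : 1 ≤ q) :
    (∑ i ∈ range m, q ^ i) * (q - 1) = q ^ m - 1 :=
  geom_sum_mul_of_one_le hq m

theorem geom_sum_pos (q m : ℕ) (hm : 1 ≤ m) : 0 < ∑ i ∈ range m, q ^ i := by
  obtain ⟨m, rfl⟩ : ∃ k, m = k + 1 := ⟨m - 1, by omega⟩
  rw [sum_range_succ', pow_zero]
  omega

theorem pow_two_mul_sub_one (q m : ℕ) (hq : 1 ≤ q) :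
    q ^ (2 * m) - 1 = (∑ i ∈ range m, q ^ i) * (q - 1) * (q ^ m + 1) := by
  rw [geom_sum_mul_sub_one q m hq]
  have h1 : 1 ≤ q ^ m := Nat.one_le_pow _ _ hq
  have h2 : q ^ (2 * m) = q ^ m * q ^ m := by rw [two_mul, pow_add]
  rw [h2]
  zify [h1, Nat.one_le_iff_ne_zero.mpr (Nat.mul_ne_zero (by omega : q ^ m ≠ 0) (by omega : q ^ m ≠ 0))]
  ring

theorem two_pow_dvd_geom_iff (q m b : ℕ) (hq : 1 ≤ q) (hb : 2 ^ b ∣ q - 1) :
    2 ^ b ∣ ∑ i ∈ range m, q ^ i ↔ 2 ^ b ∣ m :=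
  (geom_sum_modEq q (2 ^ b) m hq hb).dvd_iff (dvd_refl _)

theorem lt_padic_iff (b m : ℕ) (hm : 1 ≤ m) :
    b < padicValNat 2 (2 * m) ↔ 2 ^ b ∣ m := by
  rw [padicValNat.mul (by norm_num) (by omega), padicValNat_self,
    padicValNat_dvd_iff_le (by omega)]
  omega

theorem padic_sub_one (q : ℕ) (hq3 : 3 ≤ q) :
    ∃ u, Odd u ∧ q - 1 = 2 ^ padicValNat 2 (q - 1) * u := by
  obtain ⟨k, u, hu, h⟩ := Nat.exists_eq_two_pow_mul_odd (n := q - 1) (by omega)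
  refine ⟨u, hu, ?_⟩
  have hu0 : u ≠ 0 := by
    rintro rfl
    exact (Nat.not_odd_zero) hu
  have : padicValNat 2 (q - 1) = k := by
    rw [h, padicValNat.mul (by positivity) hu0, padicValNat.prime_pow,
      padicValNat.eq_zero_of_not_dvd hu.not_two_dvd_nat, add_zero]
  rw [this]
  exact h

theorem coprime_pow_add_one (q m u : ℕ) (hq : 1 ≤ q) (hu : Odd u) (hud : u ∣ q - 1) :
    Nat.Coprime (q ^ m + 1) u := by
  apply Nat.Coprime.symm
  rw [Nat.coprime_iff_gcd_eq_one]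
  obtain ⟨d, hd⟩ : ∃ d, d = Nat.gcd u (q ^ m + 1) := ⟨_, rfl⟩
  rw [← hd]
  have hdu : d ∣ u := by rw [hd]; exact Nat.gcd_dvd_left _ _
  have hdt : d ∣ q ^ m + 1 := by rw [hd]; exact Nat.gcd_dvd_right _ _
  have h1 : q ≡ 1 [MOD d] := ((Nat.modEq_iff_dvd' hq).mpr (hdu.trans hud)).symm
  have h2 : q ^ m + 1 ≡ 1 + 1 [MOD d] := by
    have := h1.pow m
    rw [one_pow] at this
    exact this.add_right 1
  have h3 : d ∣ 2 := by
    have := (h2.dvd_iff (dvd_refl d)).mp hdt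
    simpa using this
  have hdodd : Odd d := Odd.of_dvd_nat hu hdu
  rcases (Nat.dvd_prime Nat.prime_two).mp h3 with h | h
  · exact h
  · rw [h] at hdodd
    exact absurd hdodd (by decide)

/-- the arithmetic behind the existence direction -/
theorem dvd_of_dvd_sq_mul (q m : ℕ) (hq3 : 3 ≤ q)
    (h2 : 2 ^ padicValNat 2 (q - 1) ∣ m) (j : ℕ)
    (hj : q ^ (2 * m) - 1 ∣ (q - 1) ^ 2 * j) : q ^ m + 1 ∣ j := by
  have hq : 1 ≤ q := by omega
  obtain ⟨u, hu, hqu⟩ := padic_sub_one q hq3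
  obtain ⟨b, hb⟩ : ∃ b, b = padicValNat 2 (q - 1) := ⟨_, rfl⟩
  rw [← hb] at h2 hqu
  have hbd : 2 ^ b ∣ q - 1 := ⟨u, hqu⟩
  obtain ⟨s'', hs''⟩ := (two_pow_dvd_geom_iff q m b hq hbd).mpr h2
  rw [pow_two_mul_sub_one q m hq, hs''] at hj
  have h3 : 2 ^ b * s'' * (q - 1) * (q ^ m + 1) = (2 ^ b * (q - 1)) * (s'' * (q ^ m + 1)) := by
    ring
  have h4 : (q - 1) ^ 2 * j = (2 ^ b * (q - 1)) * (u * j) := by
    rw [pow_two]
    nth_rewrite 1 [hqu]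
    ring
  rw [h3, h4] at hj
  have h5 : s'' * (q ^ m + 1) ∣ u * j :=
    Nat.dvd_of_mul_dvd_mul_left (Nat.mul_pos (by positivity) (by omega)) hj
  have h6 : q ^ m + 1 ∣ u * j := (Dvd.intro_left _ rfl).trans h5
  exact (coprime_pow_add_one q m u hq hu ⟨2 ^ b, by rw [hqu]; ring⟩).dvd_of_dvd_mul_left h6

/-- the arithmetic behind the non-existence direction -/
theorem two_pow_dvd_of_forall (q m : ℕ) (hqo : Odd q) (hq3 : 3 ≤ q) (hm : 1 ≤ m)
    (h : ∀ j, (∑ i ∈ range m, q ^ i) * (q ^ m + 1) ∣ j * (q - 1) → q ^ m + 1 ∣ j) :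
    2 ^ padicValNat 2 (q - 1) ∣ m := by
  have hq : 1 ≤ q := by omega
  obtain ⟨u, hu, hqu⟩ := padic_sub_one q hq3
  obtain ⟨b, hb⟩ : ∃ b, b = padicValNat 2 (q - 1) := ⟨_, rfl⟩
  rw [← hb] at hqu ⊢
  have hbd : 2 ^ b ∣ q - 1 := ⟨u, hqu⟩
  rw [← two_pow_dvd_geom_iff q m b hq hbd]
  obtain ⟨a, w, hw, hs⟩ := Nat.exists_eq_two_pow_mul_odd (n := ∑ i ∈ range m, q ^ i)
    (geom_sum_pos q m hm).ne'
  rcases Nat.lt_or_ge a b with hab | hab
  · exfalso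
    have hte : Even (q ^ m + 1) := by
      have : Odd (q ^ m) := hqo.pow
      exact this.add_one
    obtain ⟨t', ht'⟩ := hte
    have ht'0 : 0 < t' := by
      have : 1 ≤ q ^ m := Nat.one_le_pow _ _ hq
      omega
    have key := h (w * t') (by
      rw [hs, ht', hqu]
      refine ⟨2 ^ (b - a - 1) * u, ?_⟩
      have : 2 ^ b = 2 ^ a * 2 * 2 ^ (b - a - 1) := by
        rw [← pow_succ, ← pow_add]
        congr 1
        omega
      rw [this]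
      ring)
    rw [ht'] at key
    have h7 : (t' + t') = 2 * t' := by ring
    rw [h7, mul_comm w t'] at key
    have h8 : 2 ∣ w := by
      rw [mul_comm 2 t'] at key
      exact Nat.dvd_of_mul_dvd_mul_left ht'0 key
    exact hw.not_two_dvd_nat h8
  · rw [hs]
    exact Dvd.dvd.mul_right (pow_dvd_pow 2 hab) w

end Cfsg.Agent.Lib.Helper5.HalfTorus
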