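import Mathlib
import Cfsg.Agent.Lib.Helper2.Zsigmondy
import Cfsg.Agent.Lib.Helper5.HalfTorus.NT
import Cfsg.Agent.Lib.Helper5.HalfTorus.Model
import Cfsg.Agent.Lib.Helper5.SpecSL.ExistK1
import Cfsg.Agent.Lib.Helper5.SpecSL.Arith
import Cfsg.Agent.Lib.Helper5.SpecSL.Count

set_option autoImplicit false

/-! An element of order `q ^ m + 1` of `PSL_{2m}(q)` lies in a Singer torus. -/

namespace Cfsg.Agent.Lib.Helper5.HalfTorus

open Cfsg.Agent.Lib.Helper5.SpecSL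

variable {F : Type*} [Field F] [Fintype F]

/-- a primitive prime divisor of `q ^ (2m) - 1` -/
theorem exists_ppd (q m : ℕ) (hq3 : 3 ≤ q) (hm : 2 ≤ m) :
    ∃ r : ℕ, r.Prime ∧ r ∣ q ^ m + 1 ∧ ¬ r ∣ q ∧ ¬ r ∣ q - 1 ∧
      orderOf ((q : ℕ) : ZMod r) = 2 * m := by
  have hq1 : 1 ≤ q := by omega
  obtain ⟨r, hr, hrd, hrn⟩ := Cfsg.Agent.Lib.Helper2.Zsig.zsigmondy q (2 * m) (by omega) (by omega)
    (by rintro ⟨h, -⟩; omega) (by rintro ⟨h, -⟩; omega)
  have h1 : ¬ r ∣ q - 1 := by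
    have := hrn 1 (by omega) (by omega)
    rwa [pow_one] at this
  have h2 : ¬ r ∣ q ^ m - 1 := hrn m (by omega) (by omega)
  have h3 : r ∣ q ^ m + 1 := by
    rw [pow_two_mul_sub_one q m hq1, geom_sum_mul_sub_one q m hq1] at hrd
    rcases (Nat.Prime.dvd_mul hr).mp hrd with h | h
    · exact absurd h h2
    · exact h
  have h4 : ¬ r ∣ q := by
    intro h
    have h5 : r ∣ q ^ (2 * m) := Dvd.dvd.trans h (dvd_pow_self q (by omega))
    have h6 : 1 ≤ q ^ (2 * m) := Nat.one_le_pow _ _ hq1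
    have h7 : r ∣ 1 := by
      have := (Nat.dvd_sub_iff_right h6 h5).mp hrd
      exact this
    exact hr.one_lt.ne' (Nat.dvd_one.mp h7)
  refine ⟨r, hr, h3, h4, h1, ?_⟩
  obtain ⟨k, hk⟩ : ∃ k, k = orderOf ((q : ℕ) : ZMod r) := ⟨_, rfl⟩
  rw [← hk]
  have hkn : k ∣ 2 * m := by
    rw [hk, ← dvd_pow_sub_one_iff q r (2 * m) hq1]
    exact hrd
  have hk0 : 0 < k := Nat.pos_of_dvd_of_pos hkn (by omega)
  have hle := Nat.le_of_dvd (by omega) hkn
  by_contra hne
  apply hrn k hk0 (by omega)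
  rw [dvd_pow_sub_one_iff q r k hq1, ← hk]

/-- a linear map of prime order `r`, where `q` has order `dim V` modulo `r`, makes every map of
which it is a power irreducible -/
theorem irreducible_of_pow {V : Type*} [AddCommGroup V] [Module F V] [Finite V]
    (X : Module.End F V) (e : ℕ) (r : ℕ) [Fact r.Prime] (hY : (X ^ e) ^ r = 1) (hY1 : X ^ e ≠ 1)
    (hr : ¬ r ∣ Fintype.card F)
    (hk : orderOf ((Fintype.card F : ℕ) : ZMod r) = Module.finrank F V)
    (W : Submodule F V) (hW : ∀ w ∈ W, X w ∈ W) : W = ⊥ ∨ W = ⊤ := by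
  obtain ⟨n, hn⟩ : ∃ n, n = Module.finrank F V := ⟨_, rfl⟩
  rw [← hn] at hk
  have hlt := finrank_fixSp_lt (X ^ e) hY1
  rw [← hn] at hlt
  have hfix0 : Module.finrank F (fixSp (X ^ e)) = 0 := by
    have h1 := orderOf_dvd_finrank_sub (X ^ e) ⊤ (fun _ _ => Submodule.mem_top) r hY hr
    rw [hk, top_inf_eq, finrank_top, ← hn] at h1
    obtain ⟨c, hc⟩ := h1
    rcases Nat.eq_zero_or_pos c with rfl | hc0
    · omega
    · have : n ≤ n * c := Nat.le_mul_of_pos_right n hc0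
      omega
  have hbot : fixSp (X ^ e) = ⊥ := Submodule.finrank_eq_zero.mp hfix0
  have hWY : ∀ w ∈ W, (X ^ e) w ∈ W := pow_apply_mem X W hW e
  have h2 := orderOf_dvd_finrank_sub (X ^ e) W hWY r hY hr
  rw [hk, hbot, inf_bot_eq, finrank_bot, Nat.sub_zero] at h2
  have hle : Module.finrank F W ≤ n := by rw [hn]; exact Submodule.finrank_le W
  obtain ⟨c, hc⟩ := h2
  rcases Nat.eq_zero_or_pos c with rfl | hc0
  · left
    rw [mul_zero] at hc
    exact Submodule.finrank_eq_zero.mp hc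
  · right
    have : n ≤ n * c := Nat.le_mul_of_pos_right n hc0
    apply Submodule.eq_top_of_finrank_eq
    omega

theorem two_pow_dvd_of_exists (n m : ℕ) (hn : n = 2 * m) (hm : 2 ≤ m)
    (hodd : Odd (Fintype.card F))
    (g : Matrix.ProjectiveSpecialLinearGroup (Fin n) F)
    (hg : orderOf g = Fintype.card F ^ m + 1) :
    2 ^ padicValNat 2 (Fintype.card F - 1) ∣ m := by
  have hq2 : 2 ≤ Fintype.card F := Fintype.one_lt_card
  have hq3 : 3 ≤ Fintype.card F := by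
    rcases hodd with ⟨c, hc⟩
    omega
  have hq1 : 1 ≤ Fintype.card F := by omega
  obtain ⟨r, hr, hrt, hrq, hrq1, hk⟩ := exists_ppd (Fintype.card F) m hq3 hm
  have hrF : Fact r.Prime := ⟨hr⟩
  rw [← hn] at hk
  have hn0 : n ≠ 0 := by omega
  have hne : Nonempty (Fin n) := ⟨⟨0, by omega⟩⟩
  obtain ⟨x0, rfl⟩ := QuotientGroup.mk_surjective g
  obtain ⟨Xm, hXm⟩ : ∃ Xm : Matrix (Fin n) (Fin n) F, Xm = (x0 : Matrix (Fin n) (Fin n) F) :=
    ⟨_, rfl⟩
  have hdXm : Xm.det = 1 := by rw [hXm]; exact x0.det_coe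
  have hiff : ∀ j : ℕ, ((x0 : Matrix.ProjectiveSpecialLinearGroup (Fin n) F)) ^ j = 1 ↔
      ∃ z : F, z ^ n = 1 ∧ Xm ^ j = z • 1 := by
    intro j
    rw [hXm]
    exact mk_pow_eq_one_iff x0 j
  obtain ⟨X, hX⟩ : ∃ X : Module.End F (Fin n → F), X = Matrix.toLin' Xm := ⟨_, rfl⟩
  have hXpow : ∀ j : ℕ, X ^ j = Matrix.toLin' (Xm ^ j) := by
    intro j
    rw [hX, Matrix.toLin'_pow]
  have hdet : LinearMap.det X = 1 := by rw [hX, LinearMap.det_toLin', hdXm]
  obtain ⟨t, ht⟩ : ∃ t, t = Fintype.card F ^ m + 1 := ⟨_, rfl⟩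
  rw [← ht] at hg hrt
  obtain ⟨t'', ht''⟩ := hrt
  have ht0 : 0 < t := by omega
  have ht''0 : 0 < t'' := by
    rcases Nat.eq_zero_or_pos t'' with rfl | h
    · omega
    · exact h
  -- the power of order `r`
  obtain ⟨z, hz, hzt⟩ := (hiff t).mp (by rw [← hg]; exact pow_orderOf_eq_one _)
  have hz0 : z ≠ 0 := by
    rintro rfl
    rw [zero_pow hn0] at hz
    exact zero_ne_one hz
  have hzq : z ^ (Fintype.card F - 1) = 1 := FiniteField.pow_card_sub_one_eq_one z hz0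
  have hY : (X ^ (t'' * (Fintype.card F - 1))) ^ r = 1 := by
    rw [← pow_mul, hXpow]
    have : t'' * (Fintype.card F - 1) * r = t * (Fintype.card F - 1) := by rw [ht'']; ring
    rw [this, pow_mul, hzt, smul_pow, one_pow, hzq, one_smul, Matrix.toLin'_one]
    rfl
  have hY1 : X ^ (t'' * (Fintype.card F - 1)) ≠ 1 := by
    intro h
    rw [hXpow] at h
    have h1 : Xm ^ (t'' * (Fintype.card F - 1)) = 1 := by
      apply Matrix.toLin'.injective
      rw [h, Matrix.toLin'_one]; rfl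
    have h2 := (hiff _).mpr ⟨1, one_pow n, by rw [h1, one_smul]⟩
    have h3 := orderOf_dvd_of_pow_eq_one h2
    rw [hg, ht'', mul_comm r t''] at h3
    exact hrq1 (Nat.dvd_of_mul_dvd_mul_left ht''0 h3)
  have hfr : Module.finrank F (Fin n → F) = n := Module.finrank_fin_fun F
  have hirr : ∀ W : Submodule F (Fin n → F), (∀ w ∈ W, X w ∈ W) → W = ⊥ ∨ W = ⊤ :=
    irreducible_of_pow X _ r hY hY1 hrq (by rw [hk, hfr])
  obtain ⟨hA, hB⟩ := irreducible_facts X hirr
  have hXs := hA hdet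
  rw [hfr] at hXs
  apply two_pow_dvd_of_forall (Fintype.card F) m hodd hq3 (by omega)
  intro j hj
  rw [← ht] at hj ⊢
  have hs : (Fintype.card F ^ n - 1) / (Fintype.card F - 1) =
      (∑ i ∈ Finset.range m, Fintype.card F ^ i) * t := by
    rw [hn, pow_two_mul_sub_one _ m hq1, ← ht]
    have : (∑ i ∈ Finset.range m, Fintype.card F ^ i) * (Fintype.card F - 1) * t =
        (Fintype.card F - 1) * ((∑ i ∈ Finset.range m, Fintype.card F ^ i) * t) := by ring
    rw [this, Nat.mul_div_cancel_left _ (by omega)]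
  rw [hs] at hXs
  obtain ⟨c, hc⟩ := hj
  have h1 : (X ^ j) ^ (Fintype.card F - 1) = 1 := by
    rw [← pow_mul, hc, pow_mul, hXs, one_pow]
  obtain ⟨a, ha⟩ := hB j h1
  have h2 : Xm ^ j = a • 1 := by
    apply Matrix.toLin'.injective
    rw [← hXpow, ha, map_smul, Matrix.toLin'_one]
    rfl
  have h3 : a ^ n = 1 := by
    have := congrArg Matrix.det h2
    rw [Matrix.det_pow, hdXm, one_pow, Matrix.det_smul, Matrix.det_one, mul_one,
      Fintype.card_fin] at this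
    exact this.symm
  have h4 := (hiff j).mpr ⟨a, h3, h2⟩
  rw [← hg]
  exact orderOf_dvd_of_pow_eq_one h4

end Cfsg.Agent.Lib.Helper5.HalfTorus
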