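import Mathlib
import Cfsg.Agent.Lib.Helper5.HalfTorus.NT
import Cfsg.Agent.Lib.Helper5.SpecSL.ExistK1

set_option autoImplicit false

/-! Existence of elements of order `q ^ m + 1` in `PSL_{2m}(q)` from a Singer cycle. -/

namespace Cfsg.Agent.Lib.Helper5.HalfTorus

open Cfsg.Agent.Lib.Helper5.SpecSL

variable {F : Type*} [Field F] [Fintype F]

theorem exists_half_torus (p : ℕ) [Fact p.Prime] [CharP F p] (n m : ℕ) (hn : n = 2 * m)
    (hm : 1 ≤ m) (hq3 : 3 ≤ Fintype.card F)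
    (h2 : 2 ^ padicValNat 2 (Fintype.card F - 1) ∣ m) :
    ∃ g : Matrix.ProjectiveSpecialLinearGroup (Fin n) F,
      orderOf g = Fintype.card F ^ m + 1 := by
  have hn0 : n ≠ 0 := by omega
  have : NeZero n := ⟨hn0⟩
  obtain ⟨q, hq⟩ : ∃ q, q = Fintype.card F := ⟨_, rfl⟩
  rw [← hq] at hq3 h2 ⊢
  have hq1 : 1 ≤ q := by omega
  have hqn : 2 ≤ q ^ n := by
    calc 2 ≤ q := by omega
      _ = q ^ 1 := (pow_one _).symm
      _ ≤ q ^ n := Nat.pow_le_pow_right (by omega) (NeZero.one_le)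
  have hcardK : Nat.card (FiniteField.Extension F p n) = q ^ n := by
    rw [FiniteField.natCard_extension, Nat.card_eq_fintype_card, hq]
  have hcard : Nat.card (FiniteField.Extension F p n)ˣ = q ^ n - 1 := by
    rw [Nat.card_units, hcardK]
  obtain ⟨γ, hγ⟩ := IsCyclic.exists_generator (α := (FiniteField.Extension F p n)ˣ)
  have hoγ : orderOf γ = q ^ n - 1 := by
    rw [← hcard]
    exact orderOf_eq_card_of_forall_mem_zpowers hγ
  have bas : Module.Basis (Fin n) F (FiniteField.Extension F p n) :=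
    Module.finBasisOfFinrankEq F _ (FiniteField.finrank_extension F p n)
  obtain ⟨h, hh⟩ : ∃ h : FiniteField.Extension F p n, h = ((γ ^ (q - 1) : _ˣ) : _) := ⟨_, rfl⟩
  have hdvd : q - 1 ∣ q ^ n - 1 := Nat.sub_one_dvd_pow_sub_one q n
  have hnorm : Algebra.norm F h = 1 := by
    apply (algebraMap F (FiniteField.Extension F p n)).injective
    rw [FiniteField.algebraMap_norm_eq_pow, map_one, hcardK, Nat.card_eq_fintype_card, ← hq, hh,
      ← Units.val_pow_eq_pow_val, ← pow_mul, Nat.mul_div_cancel' hdvd, ← hoγ,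
      pow_orderOf_eq_one, Units.val_one]
  have hdet : (Algebra.leftMulMatrix bas h).det = 1 := by
    rw [← Algebra.norm_eq_matrix_det bas h, hnorm]
  obtain ⟨x, hx⟩ : ∃ x : Matrix.SpecialLinearGroup (Fin n) F,
      (x : Matrix (Fin n) (Fin n) F) = Algebra.leftMulMatrix bas h := ⟨⟨_, hdet⟩, rfl⟩
  have key : ∀ j : ℕ, (x : Matrix.ProjectiveSpecialLinearGroup (Fin n) F) ^ j = 1 →
      q ^ m + 1 ∣ j := by
    intro j hj
    obtain ⟨z, hz, hzj⟩ := (mk_pow_eq_one_iff x j).mp hj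
    have hz0 : z ≠ 0 := by
      rintro rfl
      rw [zero_pow hn0] at hz
      exact zero_ne_one hz
    have hzq : z ^ (q - 1) = 1 := by
      rw [hq]
      exact FiniteField.pow_card_sub_one_eq_one z hz0
    have h1 : h ^ j = algebraMap F _ z := by
      apply Algebra.leftMulMatrix_injective bas
      rw [map_pow, ← hx, hzj, AlgHom.commutes, Algebra.algebraMap_eq_smul_one]
    have h3 : (h ^ j) ^ (q - 1) = 1 := by
      rw [h1, ← map_pow, hzq, map_one]
    have h4 : γ ^ ((q - 1) * j * (q - 1)) = 1 := by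
      apply Units.ext
      rw [pow_mul, pow_mul, Units.val_pow_eq_pow_val, Units.val_pow_eq_pow_val, ← hh, h3,
        Units.val_one]
    have h5 := orderOf_dvd_of_pow_eq_one h4
    rw [hoγ, hn] at h5
    apply dvd_of_dvd_sq_mul q m hq3 h2 j
    have : (q - 1) ^ 2 * j = (q - 1) * j * (q - 1) := by ring
    rw [this]
    exact h5
  obtain ⟨o, ho⟩ : ∃ o, o = orderOf (x : Matrix.ProjectiveSpecialLinearGroup (Fin n) F) :=
    ⟨_, rfl⟩
  have ho0 : 0 < o := by rw [ho]; exact orderOf_pos _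
  have hto : q ^ m + 1 ∣ o := key o (by rw [ho]; exact pow_orderOf_eq_one _)
  have htpos : 0 < q ^ m + 1 := by omega
  refine ⟨(x : Matrix.ProjectiveSpecialLinearGroup (Fin n) F) ^ (o / (q ^ m + 1)), ?_⟩
  have hdiv0 : o / (q ^ m + 1) ≠ 0 := by
    have := Nat.div_pos (Nat.le_of_dvd ho0 hto) htpos
    omega
  rw [orderOf_pow_of_dvd hdiv0 (by rw [← ho]; exact Nat.div_dvd_of_dvd hto), ← ho]
  exact Nat.div_div_self hto ho0.ne'

end Cfsg.Agent.Lib.Helper5.HalfTorus
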