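import Mathlib
import Cfsg.Agent.Lib.Helper5.HalfTorus.Exist
import Cfsg.Agent.Lib.Helper5.HalfTorus.NoExist

set_option autoImplicit false

/-! `q ^ (n / 2) + 1` is an element order of `PSL_n(q)` (`q` odd, `n ≥ 4` even) iff
`(q - 1)_2 < (n)_2`. -/

namespace Cfsg.Agent.Lib.Helper5.HalfTorus

theorem half_torus_iff {F : Type*} [Field F] [Fintype F] {q : ℕ} (hF : Fintype.card F = q)
    (hodd : Odd q) {n : ℕ} (hn : 4 ≤ n) (heven : Even n) :
    (∃ g : Matrix.ProjectiveSpecialLinearGroup (Fin n) F, orderOf g = q ^ (n / 2) + 1) ↔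
      padicValNat 2 (q - 1) < padicValNat 2 n := by
  subst hF
  obtain ⟨p, hp⟩ := CharP.exists F
  have hpF : Fact p.Prime := ⟨CharP.char_is_prime F p⟩
  obtain ⟨m, hm⟩ : ∃ m, m = n / 2 := ⟨_, rfl⟩
  have hnm : n = 2 * m := by rw [hm]; exact (Nat.two_mul_div_two_of_even heven).symm
  rw [← hm]
  have hm2 : 2 ≤ m := by omega
  have hq2 : 2 ≤ Fintype.card F := Fintype.one_lt_card
  have hq3 : 3 ≤ Fintype.card F := by
    rcases hodd with ⟨c, hc⟩
    omega
  have hiff := lt_padic_iff (padicValNat 2 (Fintype.card F - 1)) m (by omega)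
  rw [← hnm] at hiff
  rw [hiff]
  constructor
  · rintro ⟨g, hg⟩
    exact two_pow_dvd_of_exists n m hnm hm2 hodd g hg
  · intro h2
    exact exists_half_torus p n m hnm (by omega) hq3 h2

end Cfsg.Agent.Lib.Helper5.HalfTorus
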